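import Cfsg.Agent.Chev.TwistE6
import Cfsg.Agent.Chev.CharTwoWords

/-! Root tables of type E6 for the involutions of ²E₆(q), q even. -/

set_option autoImplicit false

universe u

namespace Cfsg.Agent.E6Two

open Cfsg.Lie Cfsg.Agent.Chev

/-- Partners of a positive root with their sums. -/
def addTab : List (List (ℕ × ℕ)) := [[(37, 38), (40, 41), (44, 45), (48, 49), (51, 52), (53, 54), (59, 60), (62, 63), (64, 65), (67, 68)],
  [(36, 38), (39, 40), (43, 44), (47, 48), (50, 51), (54, 55), (58, 59), (61, 62), (65, 66), (68, 69)],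
  [(39, 41), (43, 45), (47, 49), (50, 52), (53, 55), (58, 60), (61, 63), (64, 66), (67, 69)],
  [(37, 40), (38, 41), (42, 43), (46, 47), (51, 53), (52, 54), (57, 58), (62, 64), (63, 65), (69, 70)],
  [(36, 41), (42, 44), (46, 48), (50, 53), (52, 55), (57, 59), (61, 64), (63, 66), (68, 70)],
  [(42, 45), (46, 49), (50, 54), (51, 55), (57, 60), (61, 65), (62, 66), (67, 70)],
  [(39, 43), (40, 44), (41, 45), (47, 50), (48, 51), (49, 52), (56, 57), (64, 67), (65, 68), (66, 69)],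
  [(37, 44), (38, 45), (46, 50), (48, 53), (49, 54), (56, 58), (62, 67), (63, 68), (66, 70)],
  [(36, 45), (46, 51), (47, 53), (49, 55), (56, 59), (61, 67), (63, 69), (65, 70)],
  [(46, 52), (47, 54), (48, 55), (56, 60), (61, 68), (62, 69), (64, 70)],
  [(39, 47), (40, 48), (41, 49), (43, 50), (44, 51), (45, 52), (58, 61), (59, 62), (60, 63), (70, 71)],
  [(37, 48), (38, 49), (42, 50), (44, 53), (45, 54), (57, 61), (59, 64), (60, 65), (69, 71)],
  [(36, 49), (42, 51), (43, 53), (45, 55), (57, 62), (58, 64), (60, 66), (68, 71)],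
  [(42, 52), (43, 54), (44, 55), (57, 63), (58, 65), (59, 66), (67, 71)],
  [(37, 51), (38, 52), (40, 53), (41, 54), (56, 61), (59, 67), (60, 68), (66, 71)],
  [(36, 52), (39, 53), (41, 55), (56, 62), (58, 67), (60, 69), (65, 71)],
  [(39, 54), (40, 55), (56, 63), (58, 68), (59, 69), (64, 71)],
  [(36, 54), (38, 55), (56, 64), (57, 67), (60, 70), (63, 71)],
  [(37, 55), (56, 65), (57, 68), (59, 70), (62, 71)],
  [(56, 66), (57, 69), (58, 70), (61, 71)],
  [(42, 57), (43, 58), (44, 59), (45, 60), (50, 61), (51, 62), (52, 63), (53, 64), (54, 65), (55, 66)],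
  [(39, 58), (40, 59), (41, 60), (47, 61), (48, 62), (49, 63), (53, 67), (54, 68), (55, 69)],
  [(37, 59), (38, 60), (46, 61), (48, 64), (49, 65), (51, 67), (52, 68), (55, 70)],
  [(36, 60), (46, 62), (47, 64), (49, 66), (50, 67), (52, 69), (54, 70)],
  [(46, 63), (47, 65), (48, 66), (50, 68), (51, 69), (53, 70)],
  [(37, 62), (38, 63), (40, 64), (41, 65), (44, 67), (45, 68), (55, 71)],
  [(36, 63), (39, 64), (41, 66), (43, 67), (45, 69), (54, 71)],
  [(39, 65), (40, 66), (43, 68), (44, 69), (53, 71)],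
  [(36, 65), (38, 66), (42, 67), (45, 70), (52, 71)],
  [(37, 66), (42, 68), (44, 70), (51, 71)],
  [(42, 69), (43, 70), (50, 71)],
  [(36, 68), (38, 69), (41, 70), (49, 71)],
  [(37, 69), (40, 70), (48, 71)],
  [(39, 70), (47, 71)],
  [(46, 71)],
  []]

/-- Images of the roots under the four reflections. -/
def refTab : List (List ℕ) := [[0, 1, 2, 4, 3, 16, 18, 17, 20, 19, 21, 27, 26, 28, 29, 56, 5, 7, 6, 9, 8, 10, 23, 22, 24, 25, 12, 11, 13, 14, 31, 30, 32, 34, 33, 36, 35, 38, 37, 39, 41, 40, 57, 58, 60, 59, 46, 47, 49, 48, 61, 63, 62, 65, 64, 66, 15, 42, 43, 45, 44, 50, 52, 51, 54, 53, 55, 68, 67, 69, 70, 71],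
  [1, 0, 2, 3, 4, 5, 6, 7, 11, 12, 13, 8, 9, 10, 14, 15, 16, 17, 18, 26, 27, 28, 30, 31, 32, 46, 19, 20, 21, 29, 22, 23, 24, 33, 34, 35, 36, 37, 38, 47, 48, 49, 42, 50, 51, 52, 25, 39, 40, 41, 43, 44, 45, 53, 54, 55, 56, 57, 61, 62, 63, 58, 59, 60, 64, 65, 66, 67, 68, 69, 71, 70],
  [0, 1, 6, 5, 7, 3, 2, 4, 8, 10, 9, 11, 13, 12, 15, 14, 17, 16, 18, 22, 24, 23, 19, 21, 20, 25, 30, 32, 31, 42, 26, 28, 27, 35, 37, 33, 38, 34, 36, 44, 43, 45, 29, 40, 39, 41, 46, 51, 50, 52, 48, 47, 49, 53, 55, 54, 57, 56, 59, 58, 60, 62, 61, 63, 67, 69, 68, 64, 66, 65, 70, 71],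
  [0, 2, 1, 3, 4, 5, 8, 9, 6, 7, 10, 11, 12, 14, 13, 15, 16, 19, 20, 17, 18, 21, 22, 23, 25, 24, 26, 27, 29, 28, 33, 34, 39, 30, 31, 35, 36, 40, 41, 32, 37, 38, 43, 42, 44, 45, 47, 46, 48, 49, 50, 53, 54, 51, 52, 55, 56, 58, 57, 59, 60, 61, 64, 65, 62, 63, 66, 67, 68, 70, 69, 71]]

/-- Partners of a positive root with their sums. -/
def addTo (a : ℕ) : List (ℕ × ℕ) := addTab.getD (a - 36) []

/-- Image of a root under a reflection. -/
def refT (k r : ℕ) : ℕ := (refTab.getD k []).getD r r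

/-- The graph symmetry on roots. -/
def rho (r : ℕ) : ℕ := gE6.rho.getD r r

/-- A commutator word agrees with the table. -/
def termOK (a b : ℕ) : Bool :=
  match chevE6.commTerms a b with
  | [] => ((addTo a).filter fun p => p.1 == b).isEmpty
  | [(c, z, 1, 1)] => ((addTo a).filter fun p => p.1 == b) == [(b, c)] && z.natAbs % 2 == 1
  | _ => false

theorem termOK_all : ∀ a < 36, ∀ b < 36, termOK (a + 36) (b + 36) = true := by decide +kernel

theorem pos_iff : ∀ r < 72, chevE6.IsPosRoot r ↔ 36 ≤ r := by decide +kernel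

theorem nroots_eq : chevE6.nroots = 72 := by decide +kernel

theorem addTo_range : ∀ a < 36, ∀ p ∈ addTo (a + 36), 36 ≤ p.1 ∧ p.1 < 72 ∧ 36 ≤ p.2 ∧ p.2 < 72 := by decide +kernel

theorem rho_facts : ∀ r < 72, rho r < 72 ∧ rho (rho r) = r ∧ (36 ≤ rho r ↔ 36 ≤ r) ∧
    gE6.per r = if rho r = r then 1 else 2 := by decide +kernel

theorem ref_ok : ∀ k < 4, ∀ r < 72, act chevE6 (gE6.ow k) r = refT k r ∧ refT k r < 72 := by decide +kernel

end Cfsg.Agent.E6Two
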